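import Groth.Agent.Lib.ValDiv15.Local
import Groth.Agent.Lib.NormalSmooth12.Basic
import Mathlib.RingTheory.Localization.BaseChange
import Mathlib.RingTheory.Valuation.ValuationRing
import Mathlib.RingTheory.Valuation.Integral
import Mathlib.Algebra.GCDMonoid.IntegrallyClosed

/-!
# Saturated ideals of smooth algebras over valuation rings, globally
-/

open IsLocalRing TensorProduct

namespace Groth.Agent.ValDiv15

universe u

open Groth.Agent.ValCoh15

variable {R : Type u} [CommRing R] [IsDomain R] [ValuationRing R]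

theorem valuationRing_localization (p : Ideal R) [p.IsPrime] : ValuationRing (Localization.AtPrime p) := by
  have : IsDomain (Localization.AtPrime p) :=
    IsLocalization.isDomain_of_le_nonZeroDivisors _ p.primeCompl_le_nonZeroDivisors
  refine ValuationRing.iff_dvd_total.2 ⟨fun x y => ?_⟩
  obtain ⟨a, s, rfl⟩ := IsLocalization.exists_mk'_eq p.primeCompl x
  obtain ⟨b, t, rfl⟩ := IsLocalization.exists_mk'_eq p.primeCompl y
  rw [IsLocalization.mk'_eq_mul_mk'_one a s, IsLocalization.mk'_eq_mul_mk'_one b t]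
  have hu : ∀ w : p.primeCompl, IsUnit (IsLocalization.mk' (Localization.AtPrime p) 1 w) := fun w =>
    IsUnit.of_mul_eq_one (algebraMap R _ (w : R)) (by rw [IsLocalization.mk'_spec, map_one])
  simp only [(hu s).mul_right_dvd, (hu t).mul_right_dvd, (hu s).dvd_mul_right, (hu t).dvd_mul_right]
  exact (ValuationRing.dvd_total a b).imp (map_dvd _) (map_dvd _)

theorem isNormalRing : EGA4.IsNormalRing R := fun p _ =>
  haveI : IsIntegrallyClosed R := by
    classical
    letI := IsBezout.toGCDDomain R
    infer_instance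
  ⟨IsLocalization.isDomain_of_le_nonZeroDivisors _ p.primeCompl_le_nonZeroDivisors,
    isIntegrallyClosed_of_isLocalization _ p.primeCompl p.primeCompl_le_nonZeroDivisors⟩

variable {A : Type u} [CommRing A] [Algebra R A] [Algebra.Smooth R A]

/-- A smooth algebra over a valuation ring is a domain near every prime. -/
theorem exists_isDomain_away (R : Type u) [CommRing R] [IsDomain R] [ValuationRing R] {A : Type u} [CommRing A]
    [Algebra R A] [Algebra.Smooth R A] (q : Ideal A) [q.IsPrime] : ∃ e ∉ q, IsDomain (Localization.Away e) := by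
  classical
  haveI : IsDomain (Localization.AtPrime q) := (NormalSmooth12.isNormalRing_of_smooth (B := A) (isNormalRing (R := R)) q).1
  haveI : Module.Flat R A := Algebra.Smooth.flat R A
  let P₀ : Ideal A := RingHom.ker (algebraMap A (Localization.AtPrime q))
  have hsat : IsSat R P₀ := by
    intro c x hc hx
    simp only [P₀, RingHom.mem_ker, smul_eq_mul, map_mul] at hx ⊢
    haveI : Module.Flat R (Localization.AtPrime q) := inferInstance
    refine (smul_eq_zero_iff_right hc).1 ?_
    rw [Algebra.smul_def, IsScalarTower.algebraMap_apply R A (Localization.AtPrime q)]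
    exact hx
  obtain ⟨T, hT⟩ := fg_of_saturated (R := R) P₀ hsat
  have hkill : ∀ y : T, ∃ s ∉ q, s * (y : A) = 0 := fun y => by
    obtain ⟨⟨s, hs⟩, hsy⟩ := (IsLocalization.map_eq_zero_iff q.primeCompl (Localization.AtPrime q) _).1
      (RingHom.mem_ker.1 (hT ▸ Submodule.subset_span y.2 : (y : A) ∈ P₀))
    exact ⟨s, hs, hsy⟩
  choose s hs hsy using hkill
  refine ⟨∏ y, s y, fun h => ?_, ?_⟩
  · obtain ⟨y, -, hy⟩ := Ideal.IsPrime.prod_mem_iff.1 h
    exact hs y hy
  have he : (∏ y, s y) ∉ q := fun h => by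
    obtain ⟨y, -, hy⟩ := Ideal.IsPrime.prod_mem_iff.1 h
    exact hs y hy
  have hann : ∀ z ∈ P₀, (∏ y, s y) * z = 0 := fun z hz => by
    rw [← hT] at hz
    induction hz using Submodule.span_induction with
    | mem z hz =>
      rw [← Finset.prod_erase_mul _ _ (Finset.mem_univ (⟨z, hz⟩ : T)), mul_assoc, hsy ⟨z, hz⟩, mul_zero]
    | zero => simp
    | add _ _ _ _ ha hb => rw [mul_add, ha, hb, add_zero]
    | smul c _ _ ha => rw [smul_eq_mul, mul_left_comm, ha, mul_zero]
  let φ : Localization.Away (∏ y, s y) →+* Localization.AtPrime q :=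
    IsLocalization.Away.lift (∏ y, s y) (g := algebraMap A (Localization.AtPrime q))
      (IsLocalization.map_units (Localization.AtPrime q) (⟨_, he⟩ : q.primeCompl))
  refine Function.Injective.isDomain φ ((injective_iff_map_eq_zero φ).2 fun x hx => ?_)
  obtain ⟨a, ⟨_, k, rfl⟩, rfl⟩ := IsLocalization.exists_mk'_eq (Submonoid.powers (∏ y, s y)) x
  have hu := IsLocalization.mk'_spec (Localization.Away (∏ y, s y)) a
    (⟨(∏ y, s y) ^ k, k, rfl⟩ : Submonoid.powers (∏ y, s y))
  have h0 : algebraMap A (Localization.AtPrime q) a = 0 := by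
    have := congrArg φ hu
    rw [map_mul, hx, zero_mul, IsLocalization.Away.lift_eq] at this
    exact this.symm
  rw [IsLocalization.mk'_eq_zero_iff]
  exact ⟨⟨_, 1, pow_one _⟩, hann a (RingHom.mem_ker.2 h0)⟩

/-- A saturated ideal of a smooth domain over a valuation ring which is locally principal at the
points of the generic fibre is locally principal everywhere. -/
theorem exists_eqn [IsDomain A] (J : Ideal A) (hJ : IsSat R J)
    (hloc : ∀ P : Ideal A, P.IsPrime → P.comap (algebraMap R A) = ⊥ →
      ∃ g ∈ J, g ≠ 0 ∧ ∃ s ∉ P, ∀ y ∈ J, g ∣ s * y)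
    (q : Ideal A) [q.IsPrime] : ∃ g ∈ J, g ≠ 0 ∧ ∃ s ∉ q, ∀ y ∈ J, g ∣ s * y := by
  classical
  let p : Ideal R := q.comap (algebraMap R A)
  haveI : p.IsPrime := Ideal.IsPrime.comap _
  let R' := Localization.AtPrime p
  haveI : IsDomain R' := IsLocalization.isDomain_of_le_nonZeroDivisors _ p.primeCompl_le_nonZeroDivisors
  haveI : ValuationRing R' := valuationRing_localization p
  let A' := R' ⊗[R] A
  letI : Algebra A A' := Algebra.TensorProduct.rightAlgebra
  haveI hloc' : IsLocalization (Algebra.algebraMapSubmonoid A p.primeCompl) A' :=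
    IsLocalization.tensorRight (S := A) R' p.primeCompl
  haveI : IsScalarTower R A A' := IsScalarTower.of_algebraMap_eq fun r => by
    rw [RingHom.algebraMap_toAlgebra, Algebra.TensorProduct.algebraMap_apply]
    show _ = (1 : R') ⊗ₜ[R] algebraMap R A r
    rw [Algebra.algebraMap_eq_smul_one, Algebra.algebraMap_eq_smul_one, TensorProduct.smul_tmul]
  let M := Algebra.algebraMapSubmonoid A p.primeCompl
  have hRA : Function.Injective (algebraMap R A) := injective_of_fib_le q
  have hM : M ≤ nonZeroDivisors A := by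
    rintro _ ⟨c, hc, rfl⟩
    refine mem_nonZeroDivisors_of_ne_zero fun h => hc ?_
    rw [hRA (h.trans (map_zero _).symm)]
    exact zero_mem _
  haveI : IsDomain A' := IsLocalization.isDomain_of_le_nonZeroDivisors A' hM
  have hinj : Function.Injective (algebraMap A A') := IsLocalization.injective A' hM
  have hdis : Disjoint (M : Set A) (q : Set A) :=
    Set.disjoint_left.2 fun x ⟨c, hc, hcx⟩ hx => hc (Ideal.mem_comap.2 (hcx ▸ hx))
  let q' : Ideal A' := q.map (algebraMap A A')
  haveI hq'p : q'.IsPrime := IsLocalization.isPrime_of_isPrime_disjoint M A' q inferInstance hdis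
  have hq'c : q'.comap (algebraMap A A') = q :=
    IsLocalization.comap_map_of_isPrime_disjoint M A' inferInstance hdis
  have hfib : fib R' A' ≤ q' := by
    show (maximalIdeal R').map (algebraMap R' A') ≤ q'
    rw [← Localization.AtPrime.map_eq_maximalIdeal, Ideal.map_map, ← IsScalarTower.algebraMap_eq R R' A',
      IsScalarTower.algebraMap_eq R A A', ← Ideal.map_map]
    exact Ideal.map_mono (Ideal.map_le_iff_le_comap.2 le_rfl)
  let J' := J.map (algebraMap A A')
  have hJ' : IsSat R' J' := by
    intro c x hc hx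
    obtain ⟨c, u, rfl⟩ := IsLocalization.exists_mk'_eq p.primeCompl c
    have hc0 : c ≠ 0 := fun h => hc (by rw [h, IsLocalization.mk'_zero])
    have hx' : algebraMap A A' (algebraMap R A c) * x ∈ J' := by
      have := J'.mul_mem_left (algebraMap R' A' (algebraMap R R' (u : R))) hx
      rwa [smul_eq_mul, ← mul_assoc, ← map_mul, IsLocalization.mk'_spec'_mk (Localization.AtPrime p),
        ← IsScalarTower.algebraMap_apply, IsScalarTower.algebraMap_apply R A A'] at this
    obtain ⟨a, t, rfl⟩ := IsLocalization.exists_mk'_eq M x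
    rw [IsLocalization.mul_mk'_eq_mk'_of_mul, IsLocalization.mk'_mem_map_algebraMap_iff M] at hx'
    rw [IsLocalization.mk'_mem_map_algebraMap_iff M]
    obtain ⟨w, hw, hw'⟩ := hx'
    exact ⟨w, hw, hJ c _ hc0 (by rwa [smul_eq_mul, mul_left_comm])⟩
  have hloc1 : ∀ P : Ideal A', P.IsPrime → P.comap (algebraMap R' A') = ⊥ →
      ∃ g ∈ J', g ≠ 0 ∧ ∃ s ∉ P, ∀ y ∈ J', g ∣ s * y := by
    intro P hP hP0
    have h0 : (P.comap (algebraMap A A')).comap (algebraMap R A) = ⊥ := by
      rw [Ideal.comap_comap, ← IsScalarTower.algebraMap_eq, IsScalarTower.algebraMap_eq R R' A',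
        ← Ideal.comap_comap, hP0, ← RingHom.ker_eq_comap_bot,
        (RingHom.injective_iff_ker_eq_bot _).1 (IsLocalization.injective R' p.primeCompl_le_nonZeroDivisors)]
    obtain ⟨g, hg, hg0, s, hs, hdvd⟩ := hloc _ (Ideal.IsPrime.comap _) h0
    refine ⟨algebraMap A A' g, Ideal.mem_map_of_mem _ hg, fun h => hg0 (hinj (h.trans (map_zero _).symm)),
      algebraMap A A' s, hs, fun y hy => ?_⟩
    induction hy using Submodule.span_induction with
    | mem y hy => obtain ⟨y, hy, rfl⟩ := hy; rw [← map_mul]; exact map_dvd _ (hdvd y hy)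
    | zero => simp
    | add _ _ _ _ ha hb => rw [mul_add]; exact dvd_add ha hb
    | smul c _ _ ha => rw [smul_eq_mul, mul_left_comm]; exact ha.mul_left _
  obtain ⟨g, hg, hg0, s, hs, hdvd⟩ := exists_local_eqn q' hfib J' hJ' hloc1
  obtain ⟨⟨⟨j, hj⟩, t⟩, hjt⟩ := (IsLocalization.mem_map_algebraMap_iff M A').1 hg
  have hj0 : j ≠ 0 := by
    intro h
    simp only [h, map_zero] at hjt
    exact hg0 ((mul_eq_zero.1 hjt).resolve_right (IsLocalization.map_units A' t).ne_zero)
  obtain ⟨s₀, u, rfl⟩ := IsLocalization.exists_mk'_eq M s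
  have hs₀ : s₀ ∉ q := fun h => hs (by
    rw [IsLocalization.mk'_eq_mul_mk'_one s₀ u]
    exact Ideal.mul_mem_right _ _ (Ideal.mem_map_of_mem _ h))
  obtain ⟨T, hT⟩ := fg_of_saturated (R := R) J hJ
  have hdiv : ∀ y : T, ∃ w ∉ q, j ∣ w * (y : A) := by
    intro y
    obtain ⟨z, hz⟩ := hdvd _ (Ideal.mem_map_of_mem _ (hT ▸ Submodule.subset_span y.2 : (y : A) ∈ J))
    obtain ⟨z, v, rfl⟩ := IsLocalization.exists_mk'_eq M z
    refine ⟨(v : A) * t * s₀, fun h => ?_, z * u, hinj ?_⟩
    · rcases Ideal.IsPrime.mem_or_mem inferInstance h with h | h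
      · exact Set.disjoint_left.1 hdis (v * t).2 h
      · exact hs₀ h
    · rw [map_mul, map_mul, map_mul, map_mul, map_mul, ← IsLocalization.mk'_spec A' s₀ u,
        ← IsLocalization.mk'_spec A' z v, ← hjt]
      linear_combination (algebraMap A A' (v : A) * algebraMap A A' (t : A) * algebraMap A A' (u : A)) * hz
  choose w hw hwdvd using hdiv
  refine ⟨j, hj, hj0, ∏ y, w y, fun h => ?_, fun y hy => ?_⟩
  · obtain ⟨y, -, hy⟩ := Ideal.IsPrime.prod_mem_iff.1 h
    exact hw y hy
  · rw [← hT] at hy
    induction hy using Submodule.span_induction with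
    | mem z hz =>
      rw [← Finset.prod_erase_mul _ _ (Finset.mem_univ (⟨z, hz⟩ : T)), mul_assoc]
      exact Dvd.dvd.mul_left (hwdvd ⟨z, hz⟩) _
    | zero => simp
    | add _ _ _ _ ha hb => rw [mul_add]; exact dvd_add ha hb
    | smul c _ _ ha => rw [smul_eq_mul, mul_left_comm]; exact ha.mul_left _

end Groth.Agent.ValDiv15
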