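import Groth.Agent.Lib.ValDiv15.Scheme
import Groth.Agent.Lib.AlgSpCartier.Space
import Groth.Agent.Lib.SchImage14.IdealApps
import Groth.Agent.Lib.AlgSpace.QC
import Groth.Agent.Lib.AlgSpCartier.SchemeDescent

/-!
# Closure of effective Cartier divisors of generic fibres, for algebraic spaces
-/

universe u

set_option backward.isDefEq.respectTransparency.types false

open CategoryTheory CategoryTheory.Limits AlgebraicGeometry AlgSp Opposite
open Groth.Agent.AlgSpace Groth.Agent.AlgSpDecent Groth.Agent.SchImage14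

namespace Groth.Agent.ValDiv15

/-- Ideals agreeing on a flat jointly surjective family agree. -/
theorem le_of_comap_flat_cover {X : Scheme.{u}} {κ : Type u} {D : κ → Scheme.{u}} (e : ∀ k, D k ⟶ X)
    (he : ∀ k, Flat (e k)) (hs : ∀ x, ∃ k d, e k d = x) {I J : X.IdealSheafData}
    (h : ∀ k, I.comap (e k) ≤ J.comap (e k)) : I ≤ J := by
  rw [← J.ker_subschemeι]
  refine le_ker_of_flat_cover J.subschemeι (fun k => pullback.snd (e k) J.subschemeι)
    (fun k => by have := he k; infer_instance) (fun x => ?_) fun k => ?_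
  · obtain ⟨k, d, hd⟩ := hs (J.subschemeι x)
    obtain ⟨z, -, hz⟩ := Scheme.Pullback.exists_preimage_pullback (f := e k) (g := J.subschemeι) d x hd
    exact ⟨k, z, hz⟩
  · rw [← pullback.condition, Scheme.Hom.ker_comp, Scheme.IdealSheafData.le_map_iff_comap_le,
      Scheme.IdealSheafData.ker_fst_of_isClosedImmersion, Scheme.IdealSheafData.ker_subschemeι]
    exact h k

variable {S : Scheme.{u}}

theorem exists_extension
    {R : Type u} [CommRing R] [IsDomain R] [ValuationRing R] {K : Type u} [Field K] [Algebra R K]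
    [IsFractionRing R K] (str : Spec (CommRingCat.of R) ⟶ S) (X : AlgSp.Space S)
    (f : X.obj ⟶ (AlgSp.yon S).obj (Over.mk str)) (hf : AlgSp.LocP @Smooth f)
    (XK : AlgSp.Space S) (gK : XK ⟶ X)
    (fK : XK.obj ⟶ (AlgSp.yon S).obj (Over.mk ((Spec.map (CommRingCat.ofHom (algebraMap R K))) ≫ str)))
    (hXK : IsPullback gK.hom fK f ((AlgSp.yon S).map (Over.homMk (Spec.map (CommRingCat.ofHom (algebraMap R K))) rfl : Over.mk ((Spec.map (CommRingCat.ofHom (algebraMap R K))) ≫ str) ⟶ Over.mk str)))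
    (D : AlgSp.Space S) (i : D ⟶ XK) (hD : AlgSp.IsEffCartierSub i.hom) :
    ∃ (D' : AlgSp.Space S) (i' : D' ⟶ X) (k : D ⟶ D'),
      AlgSp.IsEffCartierSub i'.hom ∧ IsPullback k.hom i.hom i'.hom gK.hom := by
  classical
  let j : Over.mk ((Spec.map (CommRingCat.ofHom (algebraMap R K))) ≫ str) ⟶ Over.mk str :=
    Over.homMk (Spec.map (CommRingCat.ofHom (algebraMap R K))) rfl
  have hgq : RepWith @QuasiCompact gK.hom :=
    repWith_of_isPullback hXK.flip ((repWith_yon_map_iff _ j).2
      (inferInstanceAs (QuasiCompact (Spec.map (CommRingCat.ofHom (algebraMap R K))))))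
  have hiq : RepWith @QuasiCompact i.hom :=
    AlgSpace.repWith_mono (fun _ _ g hg => (haveI : IsClosedImmersion g := hg; inferInstance : QuasiCompact g)) hD.1
  have hcq : RepWith @QuasiCompact (i ≫ gK).hom := repWith_comp hiq hgq
  have hqc : IsQuasiCompactMor (i ≫ gK).hom := (repWith_quasiCompact_iff D.property X.property hcq.1).1 hcq
  obtain ⟨Z, i', hZ⟩ := exists_isSchImage (i ≫ gK)
  obtain ⟨k, hk⟩ := hZ.2.1
  obtain ⟨V, φ, hφe, hφs⟩ := X.property.atlas
  obtain ⟨h, hh⟩ := (yon S).map_surjective (φ ≫ f)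
  have hsm : Smooth h.left := hf φ (𝟙 _) h hφe (repWith_id _ _) (by rw [Category.comp_id, hh])
  -- integral affine pieces
  have hcov : ∀ v : V.left, ∃ W : V.left.affineOpens, v ∈ W.1 ∧ IsDomain Γ(V.left, W.1) := by
    intro v
    obtain ⟨W, hW, hvW, -⟩ := exists_isAffineOpen_mem_and_subset (X := V.left) (x := v) (U := ⊤) trivial
    letI : Algebra R Γ(V.left, W) :=
      ((Scheme.ΓSpecIso (CommRingCat.of R)).inv ≫ h.left.appLE ⊤ W le_top).hom.toAlgebra
    haveI : Algebra.Smooth R Γ(V.left, W) := by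
      have h1 := h.left.smooth_appLE (isAffineOpen_top _) hW (le_top : W ≤ h.left ⁻¹ᵁ ⊤)
      have h2 : ((h.left.appLE ⊤ W le_top).hom.comp
          (Scheme.ΓSpecIso (CommRingCat.of R)).symm.commRingCatIsoToRingEquiv.toRingHom).Smooth :=
        RingHom.Smooth.respectsIso.2 _ _ h1
      refine RingHom.smooth_algebraMap.1 ?_
      convert h2 using 1
      rw [RingHom.algebraMap_toAlgebra]
      rfl
    obtain ⟨e, he, hed⟩ := exists_isDomain_away R (hW.primeIdealOf ⟨v, hvW⟩).asIdeal
    haveI := hW.isLocalization_basicOpen e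
    refine ⟨⟨V.left.basicOpen e, hW.basicOpen e⟩, ?_, ?_⟩
    · have h2 : hW.fromSpec (hW.primeIdealOf ⟨v, hvW⟩) ∈ V.left.basicOpen e :=
        (hW.fromSpec_preimage_basicOpen e).ge he
      rwa [hW.fromSpec_primeIdealOf] at h2
    · exact (IsLocalization.algEquiv (Submonoid.powers e) (Localization.Away e)
        Γ(V.left, V.left.basicOpen e)).toRingEquiv.symm.toMulEquiv.isDomain _
  choose W hvW hWd using hcov
  -- the chart of the generic fibre
  obtain ⟨PK, pr, qK, sqK⟩ := hgq.1 φ
  have hqKe : RepWith @Etale qK := repWith_of_isPullback sqK.flip hφe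
  have hqKs : RepWith @Surjective qK := repWith_of_isPullback sqK.flip hφs
  obtain ⟨pK, hpK⟩ := (yon S).map_surjective (qK ≫ fK)
  have sqP : IsPullback pr pK h j := by
    refine IsPullback.of_map (F := yon S) ((yon S).map_injective ?_) ?_
    · rw [Functor.map_comp, Functor.map_comp, hh, hpK, ← Category.assoc, ← sqK.w, Category.assoc,
        Category.assoc, hXK.w]
    · rw [hh, hpK]
      exact (sqK.flip.paste_vert hXK)
  have sqPs : IsPullback pr.left pK.left h.left (Spec.map (CommRingCat.ofHom (algebraMap R K))) :=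
    sqP.map (Over.forget S)
  obtain ⟨I, fI, sqI⟩ := AlgSpCartier.exists_ideal_square hD.1 qK
  have hI := AlgSpCartier.isEffCartierIdeal_chart hD hqKe sqI
  have sqD : IsPullback fI ((yon S).map (AlgSpCartier.subOver I ≫ pr)) (i ≫ gK).hom φ := by
    rw [Functor.map_comp]
    exact sqI.paste_vert sqK
  let J := subIdeal hZ.1 φ
  have hJ : J = (I.subschemeι ≫ pr.left).ker := by
    rw [show J = _ from subIdeal_eq_ker_snd hcq.1 hqc hZ φ hφe]
    let e := (yon S).preimageIso ((hcq.1.isPullback φ).isoIsPullback _ _ sqD)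
    have he : e.hom ≫ AlgSpCartier.subOver I ≫ pr = hcq.1.snd φ := (yon S).map_injective (by simp [e])
    exact AlgSpCartier.ker_eq_of_iso ((CategoryTheory.Over.forget S).mapIso e) _ _
      (by exact congrArg CommaMorphism.left he)
  -- pieces
  have hpiece : ∀ v : V.left, BlowUp.IsEffCartierIdeal (J.comap (W v).1.ι) ∧
      (J.comap pr.left).comap (pr.left ⁻¹ᵁ (W v).1).ι = I.comap (pr.left ⁻¹ᵁ (W v).1).ι := by
    intro v
    let U := (W v).1
    let UK := pr.left ⁻¹ᵁ U
    haveI : IsAffine U.toScheme := (W v).2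
    haveI : IsDomain Γ(U.toScheme, ⊤) := by
      haveI := hWd v
      exact U.topIso.commRingCatIsoToRingEquiv.toMulEquiv.isDomain _
    have sqO : IsPullback (pr.left ∣_ U) UK.ι U.ι pr.left :=
      (isPullback_morphismRestrict pr.left U)
    have sqU : IsPullback (pr.left ∣_ U) (UK.ι ≫ pK.left) (U.ι ≫ h.left)
        (Spec.map (CommRingCat.ofHom (algebraMap R K))) := sqO.paste_vert sqPs
    have hIU : BlowUp.IsEffCartierIdeal (I.comap UK.ι) := AlgSpCartier.isEffCartierIdeal_comap_of_flat UK.ι hI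
    haveI : Smooth (U.ι ≫ h.left) := inferInstance
    obtain ⟨h1, h2⟩ := isEffCartierIdeal_closure (U.ι ≫ h.left) sqU hIU
    haveI : QuasiCompact (I.subschemeι ≫ pr.left) := by
      have : QuasiCompact pr.left := hgq.2 _ _ _ sqK
      infer_instance
    have hkey : J.comap U.ι = ((I.comap UK.ι).subschemeι ≫ (pr.left ∣_ U)).ker := by
      rw [hJ]
      refine (ker_comap_of_flat (IsPullback.of_hasPullback (I.subschemeι ≫ pr.left) U.ι)).trans ?_
      have s1 := (IsPullback.of_hasPullback UK.ι I.subschemeι).flip.paste_vert sqO.flip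
      refine (AlgSpCartier.ker_eq_of_iso ((IsPullback.of_hasPullback _ _).isoIsPullback _ _ s1) _ _
          (IsPullback.isoIsPullback_hom_snd _ _ _ _)).trans ?_
      exact AlgSpCartier.ker_eq_of_iso (I.comapIso UK.ι).symm _ _ (by
          rw [Iso.symm_hom, ← Category.assoc, Scheme.IdealSheafData.comapIso_inv_subschemeι])
    refine ⟨hkey ▸ h1, ?_⟩
    rw [← Scheme.IdealSheafData.comap_comp, ← sqO.w, Scheme.IdealSheafData.comap_comp, hkey]
    exact h2
  obtain ⟨J', fJ, sqJ⟩ := AlgSpCartier.exists_ideal_square hZ.1 φ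
  have hJJ : J = J' :=
    (subIdeal_eq_ker hZ.1 φ sqJ).trans (Scheme.IdealSheafData.ker_subschemeι J')
  refine ⟨Z, i', (ObjectProperty.homMk k : D ⟶ Z), ⟨hZ.1, V, φ, J', fJ, hφe, hφs, sqJ, ?_⟩, ?_⟩
  · rw [← hJJ]
    refine EffCartier.isEffCartierIdeal_iff.mpr fun v => ?_
    exact AlgSpCartier.exists_isEqn_of_comap (W v).1.ι (W v).1.ι.isOpenMap (hpiece v).1 ⟨v, hvW v⟩
  -- the generic fibre of the closure
  let p₁ := pullback.fst i'.hom gK.hom
  let p₂ := pullback.snd i'.hom gK.hom
  have sqZ : IsPullback p₁ p₂ i'.hom gK.hom := IsPullback.of_hasPullback _ _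
  have hp₂ : RepWith @IsClosedImmersion p₂ := repWith_of_isPullback sqZ hZ.1
  have : Mono i.hom := AlgSpDescent.mono_of_repWith_closedImmersion hD.1
  have : Mono p₂ := AlgSpDescent.mono_of_repWith_closedImmersion hp₂
  have hP : IsAlgSpace (pullback i'.hom gK.hom) := isAlgSpace_of_representable hp₂.1 XK.property
  have w₀ : (yon S).map pr ≫ φ = qK ≫ gK.hom := sqK.w.symm
  have hIeq : subIdeal hD.1 qK = I :=
    (subIdeal_eq_ker hD.1 qK sqI).trans (Scheme.IdealSheafData.ker_subschemeι I)
  have hPeq : subIdeal hp₂ qK = J.comap pr.left := by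
    rw [← subIdeal_comp, w₀]
    exact (subIdeal_eq_ker hZ.1 (qK ≫ gK.hom) ((hp₂.1.isPullback qK).paste_horiz sqZ)).symm
  have hle : I ≤ J.comap pr.left := by
    refine le_of_comap_flat_cover (fun v : V.left => (pr.left ⁻¹ᵁ (W v).1).ι) (fun v => inferInstance)
      (fun x => ⟨pr.left x, ⟨x, hvW (pr.left x)⟩, rfl⟩) fun v => ?_
    rw [(hpiece v).2]
  obtain ⟨d, hd⟩ := exists_hom_of_le hP hp₂ hD.1 hqKe hqKs (by rw [hIeq, hPeq]; exact hle)
  have hk' : k ≫ i'.hom = i.hom ≫ gK.hom := hk
  let e : D.obj ≅ pullback i'.hom gK.hom :=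
    { hom := pullback.lift k i.hom hk'
      inv := d
      hom_inv_id := by rw [← cancel_mono i.hom, Category.assoc, hd, pullback.lift_snd, Category.id_comp]
      inv_hom_id := by rw [← cancel_mono p₂, Category.assoc, pullback.lift_snd, hd, Category.id_comp] }
  exact IsPullback.of_iso sqZ e.symm (Iso.refl _) (Iso.refl _) (Iso.refl _)
    (by
      simp only [Iso.refl_hom, Category.comp_id]
      exact ((Iso.inv_comp_eq e).2 (pullback.lift_fst k i.hom hk').symm).symm)
    (by
      simp only [Iso.refl_hom, Category.comp_id]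
      exact ((Iso.inv_comp_eq e).2 (pullback.lift_snd k i.hom hk').symm).symm) (by simp) (by simp)

end Groth.Agent.ValDiv15
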