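import Groth.Agent.Lib.ValDiv15.StablyFree
import Groth.Agent.Lib.ValSmoothH7.Basic
import Groth.Agent.Lib.FlatH4.SliceFlat
import Groth.Agent.Lib.SmoothReg17.Basic
import Mathlib.RingTheory.Smooth.Flat
import Mathlib.RingTheory.Localization.Ideal

/-!
# Saturated ideals of smooth algebras over valuation rings

A saturated ideal which is locally principal over the generic point is locally principal.
-/

open IsLocalRing TensorProduct

namespace Groth.Agent.ValDiv15

universe u

open Groth.Agent.ValCoh15 Groth.Agent.RegLoc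

variable {R A : Type u} [CommRing R] [IsDomain R] [ValuationRing R] [CommRing A] [Algebra R A]

theorem hcoh_localization [Algebra.FiniteType R A] (M : Submonoid A) (B : Type u) [CommRing B] [Algebra A B]
    [Algebra R B] [IsScalarTower R A B] [IsLocalization M B] (r : ℕ) (N : Submodule B (Fin r → B))
    (hN : IsSat R N) : N.FG := by
  classical
  let ι : (Fin r → A) →ₗ[A] (Fin r → B) := LinearMap.compLeft (Algebra.linearMap A B) (Fin r)
  let N₀ : Submodule A (Fin r → A) := (N.restrictScalars A).comap ι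
  have hN₀ : IsSat R N₀ := fun c x hc hx => by
    simp only [N₀, Submodule.mem_comap, Submodule.restrictScalars_mem, map_smul] at hx ⊢
    refine hN c _ hc ?_
    rwa [IsScalarTower.algebraMap_apply R A B, algebraMap_smul]
  obtain ⟨T, hT⟩ := fg_of_saturated (R := R) N₀ hN₀
  refine ⟨T.image ι, le_antisymm ?_ fun x hx => ?_⟩
  · rw [Submodule.span_le, Finset.coe_image]
    rintro _ ⟨t, ht, rfl⟩
    exact (show t ∈ N₀ from hT ▸ Submodule.subset_span ht)
  · obtain ⟨b, hb⟩ := IsLocalization.exist_integer_multiples_of_finite M x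
    choose a ha using hb
    have hι : ι a = (algebraMap A B (b : A)) • x :=
      funext fun i => (ha i).trans (Algebra.smul_def (b : A) (x i))
    have haN : a ∈ N₀ := by
      show ι a ∈ N
      rw [hι]; exact N.smul_mem _ hx
    have h1 : ι a ∈ Submodule.span B (↑(T.image ι) : Set (Fin r → B)) := by
      rw [← hT] at haN
      have := Submodule.mem_map_of_mem (f := ι) haN
      rw [Submodule.map_span] at this
      rw [Finset.coe_image]
      exact Submodule.span_subset_span A B _ this
    rw [hι] at h1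
    exact (Submodule.smul_mem_iff_of_isUnit _ (IsLocalization.map_units B b)).1 h1

variable (R) in
/-- The special fibre of the local ring is regular. -/
theorem isRegularLocalRing_fib [Algebra.Smooth R A] (q : Ideal A) [q.IsPrime] (hq : fib R A ≤ q) :
    IsRegularLocalRing (Localization.AtPrime q ⧸ fib R (Localization.AtPrime q)) := by
  let k := ResidueField R
  let B := A ⧸ fib R A
  let e : B ≃ₐ[A] A ⊗[R] (R ⧸ maximalIdeal R) := Algebra.TensorProduct.quotIdealMapEquivTensorQuot A (maximalIdeal R)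
  let c : A ⊗[R] (R ⧸ maximalIdeal R) ≃ₐ[R] k ⊗[R] A :=
    Algebra.TensorProduct.comm R A (R ⧸ maximalIdeal R)
  let f : k →+* B := e.symm.toRingEquiv.toRingHom.comp
    (c.symm.toRingEquiv.toRingHom.comp (algebraMap k (k ⊗[R] A)))
  have hf : f.Smooth :=
    RingHom.Smooth.respectsIso.1 _ e.symm.toRingEquiv
      (RingHom.Smooth.respectsIso.1 _ c.symm.toRingEquiv (RingHom.smooth_algebraMap.2 inferInstance))
  let Q : Ideal B := q.map (Ideal.Quotient.mk (fib R A))
  have hker : RingHom.ker (Ideal.Quotient.mk (fib R A)) ≤ q := by rwa [Ideal.mk_ker]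
  haveI : Q.IsPrime := Ideal.map_isPrime_of_surjective Ideal.Quotient.mk_surjective hker
  haveI := SmoothReg17.isRegularLocalRing_of_smooth f hf Q
  let L := Localization.AtPrime q
  let C := L ⧸ (fib R A).map (algebraMap A L)
  haveI : IsLocalization.AtPrime C Q := by
    have h : IsLocalization (Algebra.algebraMapSubmonoid B q.primeCompl) C := inferInstance
    have heq : Algebra.algebraMapSubmonoid B q.primeCompl = Q.primeCompl := by
      ext y
      obtain ⟨y, rfl⟩ := Ideal.Quotient.mk_surjective y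
      have hy : Ideal.Quotient.mk (fib R A) y ∈ Q ↔ y ∈ q := by
        rw [← Ideal.mem_comap, Ideal.comap_map_of_surjective _ Ideal.Quotient.mk_surjective,
          ← RingHom.ker_eq_comap_bot, sup_of_le_left hker]
      constructor
      · rintro ⟨z, hz, hzy⟩
        show Ideal.Quotient.mk _ y ∉ Q
        have hzy' : Ideal.Quotient.mk (fib R A) z = Ideal.Quotient.mk (fib R A) y := hzy
        rw [← hzy', ← Ideal.mem_comap, Ideal.comap_map_of_surjective _ Ideal.Quotient.mk_surjective,
          ← RingHom.ker_eq_comap_bot, sup_of_le_left hker]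
        exact hz
      · intro h
        exact ⟨y, fun h' => h (hy.2 h'), rfl⟩
    rw [heq] at h
    exact h
  haveI : IsRegularLocalRing C := IsRegularLocalRing.of_ringEquiv
    (IsLocalization.algEquiv Q.primeCompl (Localization.AtPrime Q) C).toRingEquiv
  have hfib : (fib R A).map (algebraMap A L) = fib R L := by
    rw [fib, fib, Ideal.map_map, ← IsScalarTower.algebraMap_eq R A L]
  exact IsRegularLocalRing.of_ringEquiv (Ideal.quotEquivOfEq hfib)

/-- Torsion-freeness of the slice by an element nonzero on the special fibre. -/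
theorem mem_of_smul_mem_slice [IsDomain A] [Algebra.Smooth R A] (q : Ideal A) [q.IsPrime] (hq : fib R A ≤ q)
    (hprime : (fib R (Localization.AtPrime q)).IsPrime) (h : Localization.AtPrime q)
    (hh : h ∉ fib R (Localization.AtPrime q)) {c : R} (hc : c ≠ 0) {y : Localization.AtPrime q}
    (hy : algebraMap R _ c * y ∈ Ideal.span {h}) : y ∈ Ideal.span {h} := by
  let L := Localization.AtPrime q
  haveI := hprime
  by_cases hu : IsUnit h
  · rw [Ideal.span_singleton_eq_top.2 hu]; trivial
  obtain ⟨h₀, s₀, rfl⟩ := IsLocalization.exists_mk'_eq q.primeCompl h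
  have hh₀ : h₀ ∈ q := by
    by_contra h0
    exact hu ((IsLocalization.AtPrime.isUnit_mk'_iff L q h₀ s₀).2 h0)
  have hsp : Ideal.span {IsLocalization.mk' L h₀ s₀} = Ideal.span {algebraMap A L h₀} := by
    rw [Ideal.span_singleton_eq_span_singleton]
    exact ⟨(IsLocalization.map_units L s₀).unit, by rw [IsUnit.unit_spec, IsLocalization.mk'_spec]⟩
  rw [hsp] at hy ⊢
  have hh₁ : algebraMap A L h₀ ∉ fib R L := by
    intro h1
    apply hh
    rw [IsLocalization.mk'_eq_mul_mk'_one h₀ s₀]
    exact Ideal.mul_mem_right _ _ h1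
  have hqR : q.comap (algebraMap R A) = maximalIdeal R :=
    le_antisymm (le_maximalIdeal (Ideal.IsPrime.ne_top (Ideal.IsPrime.comap _)))
      (Ideal.map_le_iff_le_comap.1 hq)
  have hfib : (fib R A).map (algebraMap A L) = fib R L := by
    rw [fib, fib, Ideal.map_map, ← IsScalarTower.algebraMap_eq R A L]
  haveI : Module.Flat R A := Algebra.Smooth.flat R A
  haveI : Module.Flat R (LocalizedModule q.primeCompl A) :=
    inferInstanceAs (Module.Flat R L)
  obtain ⟨f, hf, hf'⟩ := FlatH4.exists_slice (A := R) q h₀ hh₀ (fun a t ht hmem => by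
    rw [hqR] at hmem ⊢
    have h1 := Ideal.mem_map_of_mem (algebraMap A L) hmem
    rw [hfib, map_mul, map_mul] at h1
    rcases hprime.mem_or_mem h1 with h2 | h2
    · rcases hprime.mem_or_mem h2 with h3 | h3
      · exact absurd (Ideal.eq_top_of_isUnit_mem _ h3 (IsLocalization.map_units L (⟨t, ht⟩ : q.primeCompl)))
          hprime.ne_top
      · exact absurd h3 hh₁
    · rw [← hfib, IsLocalization.algebraMap_mem_map_algebraMap_iff q.primeCompl] at h2
      exact h2)
  obtain ⟨-, hflat⟩ := hf' (Localization.Away f)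
  let Lf := Localization.Away f
  obtain ⟨a, t, rfl⟩ := IsLocalization.exists_mk'_eq q.primeCompl y
  obtain ⟨b', hb'⟩ := Ideal.mem_span_singleton'.1 hy
  obtain ⟨b, s, rfl⟩ := IsLocalization.exists_mk'_eq q.primeCompl b'
  have hne : q.primeCompl ≤ nonZeroDivisors A := q.primeCompl_le_nonZeroDivisors
  have hinj : Function.Injective (algebraMap A L) := IsLocalization.injective L hne
  have hA : b * t * h₀ = algebraMap R A c * a * s := by
    apply hinj
    have h1 := IsLocalization.mk'_spec L b s
    have h2 := IsLocalization.mk'_spec L a t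
    rw [map_mul, map_mul, map_mul, map_mul, ← IsScalarTower.algebraMap_apply R A L, ← h1, ← h2]
    linear_combination (algebraMap A L (s : A) * algebraMap A L (t : A)) * hb'
  let u := algebraMap A Lf
  haveI : Module.IsTorsionFree R (Lf ⧸ Ideal.span {u h₀}) := inferInstance
  have hmk : Ideal.Quotient.mk (Ideal.span {u h₀}) (u (a * s)) = 0 := by
    refine (smul_eq_zero_iff_right hc).1 ?_
    show Ideal.Quotient.mk (Ideal.span {u h₀}) (c • u (a * s)) = 0
    rw [Ideal.Quotient.eq_zero_iff_mem, Algebra.smul_def, Ideal.mem_span_singleton',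
      IsScalarTower.algebraMap_apply R A Lf]
    exact ⟨u (b * t), by rw [← map_mul, ← map_mul, hA, mul_assoc]⟩
  rw [Ideal.Quotient.eq_zero_iff_mem, Ideal.mem_span_singleton'] at hmk
  obtain ⟨d', hd'⟩ := hmk
  obtain ⟨d, ⟨_, k, rfl⟩, rfl⟩ := IsLocalization.exists_mk'_eq (Submonoid.powers f) d'
  have hf0 : f ≠ 0 := fun h0 => hf (h0 ▸ zero_mem _)
  have hA2 : d * h₀ = a * s * f ^ k := by
    apply IsLocalization.injective Lf (powers_le_nonZeroDivisors_of_noZeroDivisors hf0)
    rw [map_mul, map_mul, ← IsLocalization.mk'_spec Lf d (⟨f ^ k, k, rfl⟩ : Submonoid.powers f), ← hd']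
    ring
  have hsf : (s : A) * f ^ k ∈ q.primeCompl := q.primeCompl.mul_mem s.2 (pow_mem hf k)
  refine Ideal.mem_span_singleton'.2 ⟨IsLocalization.mk' L d (t * ⟨_, hsf⟩), ?_⟩
  rw [mul_comm, IsLocalization.mul_mk'_eq_mk'_of_mul, IsLocalization.mk'_eq_iff_eq]
  congr 1
  simp only [Submonoid.coe_mul]
  linear_combination (t : A) * hA2

theorem comap_fib_eq (q : Ideal A) [q.IsPrime] (hq : fib R A ≤ q) :
    fib R (Localization.AtPrime q) ≤ maximalIdeal (Localization.AtPrime q) := by
  have hfib : (fib R A).map (algebraMap A (Localization.AtPrime q)) = fib R (Localization.AtPrime q) := by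
    rw [fib, fib, Ideal.map_map, ← IsScalarTower.algebraMap_eq R A (Localization.AtPrime q)]
  rw [← hfib, ← Localization.AtPrime.map_eq_maximalIdeal]
  exact Ideal.map_mono hq

theorem isPrime_fib [Algebra.Smooth R A] (q : Ideal A) [q.IsPrime] (hq : fib R A ≤ q) :
    (fib R (Localization.AtPrime q)).IsPrime := by
  haveI := isRegularLocalRing_fib R q hq
  haveI := RegLoc.isDomain (Localization.AtPrime q ⧸ fib R (Localization.AtPrime q))
  exact (Ideal.Quotient.isDomain_iff_prime _).1 this

theorem injective_of_fib_le [IsDomain A] [Algebra.Smooth R A] (q : Ideal A) [q.IsPrime] :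
    Function.Injective (algebraMap R A) := by
  intro a b hab
  haveI : Module.Flat R A := Algebra.Smooth.flat R A
  by_contra hne
  have h : (a - b) • (1 : A) = 0 := by rw [Algebra.smul_def, map_sub, hab, sub_self, zero_mul]
  exact one_ne_zero ((smul_eq_zero_iff_right (sub_ne_zero.2 hne)).1 h)

/-- Content: every nonzero element is a constant times an element nonzero on the special fibre. -/
theorem exists_content [IsDomain A] [Algebra.Smooth R A] (q : Ideal A) [q.IsPrime] (hq : fib R A ≤ q)
    (x : Localization.AtPrime q) (hx : x ≠ 0) :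
    ∃ (v : R) (g : Localization.AtPrime q), v ≠ 0 ∧ g ∉ fib R (Localization.AtPrime q) ∧
      x = algebraMap R _ v * g := by
  let L := Localization.AtPrime q
  have hprime := isPrime_fib q hq
  let η : Ideal A := (fib R L).comap (algebraMap A L)
  haveI : η.IsPrime := Ideal.IsPrime.comap _
  have hfib : (fib R A).map (algebraMap A L) = fib R L := by
    rw [fib, fib, Ideal.map_map, ← IsScalarTower.algebraMap_eq R A L]
  have hηq : η ≤ q := fun a ha => by
    by_contra h
    exact hprime.ne_top (Ideal.eq_top_of_isUnit_mem _ ha (IsLocalization.map_units L (⟨a, h⟩ : q.primeCompl)))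
  have hη : η ∈ (fib R A).minimalPrimes := by
    refine ⟨⟨inferInstance, Ideal.map_le_iff_le_comap.1 hfib.le⟩, fun P hP hPη a ha => ?_⟩
    haveI := hP.1
    have hdis : Disjoint (q.primeCompl : Set A) (P : Set A) :=
      Set.disjoint_left.2 fun z hz hzP => hz (hηq (hPη hzP))
    rw [← IsLocalization.comap_map_of_isPrime_disjoint q.primeCompl L hP.1 hdis]
    exact Ideal.mem_comap.2 ((hfib ▸ Ideal.map_mono hP.2 : fib R L ≤ P.map (algebraMap A L)) ha)
  obtain ⟨-, -, -, hval⟩ := ValSmoothH7.generic_point_special_fibre η hη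
  obtain ⟨a, t, rfl⟩ := IsLocalization.exists_mk'_eq q.primeCompl x
  have ha : a ≠ 0 := fun h => hx (by rw [h, IsLocalization.mk'_zero])
  have hne : η.primeCompl ≤ nonZeroDivisors A := η.primeCompl_le_nonZeroDivisors
  obtain ⟨v, w, hw⟩ := hval (algebraMap A (Localization.AtPrime η) a)
    (fun h => ha (IsLocalization.injective _ hne (h.trans (map_zero _).symm)))
  have hv : v ≠ 0 := fun h => ha (IsLocalization.injective (Localization.AtPrime η) hne
    (by rw [hw, h, map_zero, zero_mul, map_zero]))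
  obtain ⟨b, σ, hbσ⟩ := IsLocalization.exists_mk'_eq η.primeCompl (w : Localization.AtPrime η)
  have hb : b ∉ η := by
    rw [← Ideal.mem_primeCompl_iff, ← IsLocalization.AtPrime.isUnit_mk'_iff (Localization.AtPrime η) η b σ, hbσ]
    exact w.isUnit
  have hA : a * σ = algebraMap R A v * b := by
    apply IsLocalization.injective (Localization.AtPrime η) hne
    rw [map_mul, map_mul, hw, ← hbσ, ← IsScalarTower.algebraMap_apply, mul_assoc, IsLocalization.mk'_spec]
  have hσ : algebraMap A L (t * σ) ∉ fib R L := by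
    rw [map_mul]
    intro h
    rcases hprime.mem_or_mem h with h | h
    · exact hprime.ne_top (Ideal.eq_top_of_isUnit_mem _ h (IsLocalization.map_units L t))
    · exact σ.2 h
  have hkey : algebraMap R L v * algebraMap A L b = IsLocalization.mk' L a t * algebraMap A L (t * σ) := by
    rw [map_mul, ← mul_assoc, IsLocalization.mk'_spec, ← map_mul, hA, map_mul,
      ← IsScalarTower.algebraMap_apply R A L]
  obtain ⟨g, hg⟩ := Ideal.mem_span_singleton'.1 (mem_of_smul_mem_slice q hq hprime _ hσ hv
    (y := algebraMap A L b) (Ideal.mem_span_singleton'.2 ⟨_, hkey.symm⟩))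
  refine ⟨v, g, hv, fun hgm => hb ?_, ?_⟩
  · show algebraMap A L b ∈ fib R L
    rw [← hg]
    exact Ideal.mul_mem_right _ _ hgm
  · have h0 : algebraMap A L (t * σ) ≠ 0 := fun h => hσ (h ▸ zero_mem _)
    apply mul_right_cancel₀ h0
    rw [← hkey, ← hg, mul_assoc]

/-- A saturated ideal which is locally principal at the generic point is locally principal. -/
theorem exists_local_eqn [IsDomain A] [Algebra.Smooth R A] (q : Ideal A) [q.IsPrime] (hq : fib R A ≤ q)
    (J : Ideal A) (hJ : IsSat R J)
    (hloc : ∀ P : Ideal A, P.IsPrime → P.comap (algebraMap R A) = ⊥ →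
      ∃ g ∈ J, g ≠ 0 ∧ ∃ s ∉ P, ∀ y ∈ J, g ∣ s * y) :
    ∃ g ∈ J, g ≠ 0 ∧ ∃ s ∉ q, ∀ y ∈ J, g ∣ s * y := by
  classical
  let L := Localization.AtPrime q
  have hne : q.primeCompl ≤ nonZeroDivisors A := q.primeCompl_le_nonZeroDivisors
  haveI : IsDomain L := IsLocalization.isDomain_of_le_nonZeroDivisors L hne
  have hinj : Function.Injective (algebraMap A L) := IsLocalization.injective L hne
  have hRA := injective_of_fib_le (R := R) q
  have hRL : Function.Injective (algebraMap R L) := by
    rw [IsScalarTower.algebraMap_eq R A L]; exact hinj.comp hRA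
  have hL : ∀ (c : R) (x : L), c ≠ 0 → algebraMap R L c * x = 0 → x = 0 := fun c x hc h =>
    (mul_eq_zero.1 h).resolve_left fun h0 => hc (hRL (h0.trans (map_zero _).symm))
  have hJfg : J.FG := fg_of_saturated (R := R) J hJ
  have hcoh := hcoh_localization (R := R) (A := A) q.primeCompl L
  -- the localised ideal
  let J' : Ideal L := J.map (algebraMap A L)
  have hJ' : IsSat R J' := by
    intro c x hc hx
    obtain ⟨a, t, rfl⟩ := IsLocalization.exists_mk'_eq q.primeCompl x
    rw [smul_eq_mul, IsScalarTower.algebraMap_apply R A L, IsLocalization.mul_mk'_eq_mk'_of_mul,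
      IsLocalization.mk'_mem_map_algebraMap_iff q.primeCompl] at hx
    obtain ⟨u, hu, hu'⟩ := hx
    rw [IsLocalization.mk'_mem_map_algebraMap_iff q.primeCompl]
    exact ⟨u, hu, hJ c _ hc (by rwa [smul_eq_mul, mul_left_comm])⟩
  haveI : Module.Finite L J' := Module.Finite.iff_fg.2 (hJfg.map _)
  -- the generic fibre
  let S : Submonoid L := (nonZeroDivisors R).map (algebraMap R L)
  have hS : S ≤ nonZeroDivisors L := by
    rintro _ ⟨c, hc, rfl⟩
    exact mem_nonZeroDivisors_of_ne_zero fun h => nonZeroDivisors.ne_zero hc (hRL (h.trans (map_zero _).symm))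
  let K := Localization S
  haveI : IsDomain K := IsLocalization.isDomain_of_le_nonZeroDivisors K hS
  have hLK : Function.Injective (algebraMap L K) := IsLocalization.injective K hS
  let ψ : A →+* K := (algebraMap L K).comp (algebraMap A L)
  let Q : Ideal K := J'.map (algebraMap L K)
  have hQ : Q = J.map ψ := Ideal.map_map _ _
  have hQloc : ∀ M : Ideal K, M.IsMaximal → ∃ g ∈ Q, g ≠ 0 ∧ ∃ s ∉ M, ∀ y ∈ Q, g ∣ s * y := by
    intro M hM
    have hP : (M.comap ψ).comap (algebraMap R A) = ⊥ := by
      refine eq_bot_iff.2 fun c hc => ?_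
      by_contra h0
      refine hM.ne_top (Ideal.eq_top_of_isUnit_mem M (Ideal.mem_comap.1 (Ideal.mem_comap.1 hc)) ?_)
      show IsUnit (algebraMap L K (algebraMap A L (algebraMap R A c)))
      rw [← IsScalarTower.algebraMap_apply R A L]
      exact IsLocalization.map_units K (⟨_, c, mem_nonZeroDivisors_of_ne_zero h0, rfl⟩ : S)
    obtain ⟨g, hg, hg0, s, hs, hdvd⟩ := hloc _ (Ideal.IsPrime.comap ψ) hP
    refine ⟨ψ g, hQ ▸ Ideal.mem_map_of_mem _ hg, fun h => hg0 (hinj (hLK ?_)), ψ s, hs, fun y hy => ?_⟩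
    · rw [map_zero, map_zero]; exact h
    · rw [hQ] at hy
      induction hy using Submodule.span_induction with
      | mem y hy => obtain ⟨y, hy, rfl⟩ := hy; rw [← map_mul]; exact map_dvd ψ (hdvd y hy)
      | zero => simp
      | add _ _ _ _ ha hb => rw [mul_add]; exact dvd_add ha hb
      | smul c _ _ ha => rw [smul_eq_mul, mul_left_comm]; exact ha.mul_left _
  have hQproj := projective_of_locally_principal Q hQloc
  let eQ : LocalizedModule S J' ≃ₗ[K] Q :=
    (IsLocalizedModule.iso S (Algebra.idealMap K J')).extendScalarsOfIsLocalization S K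
  have hp : Module.Projective K (LocalizedModule S J') := Module.Projective.of_equiv eQ.symm
  haveI := isRegularLocalRing_fib R q hq
  haveI : Module.Finite (L ⧸ fib R L) (J' ⧸ fib R L • (⊤ : Submodule L J')) :=
    Module.Finite.of_restrictScalars_finite L _ _
  obtain ⟨a, b, ⟨e⟩⟩ := stablyFreeFin_of_pd_red (R := R) (comap_fib_eq q hq) hL hcoh S _ J'
    (fun c x hc h => Subtype.ext (hL c _ hc (congrArg Subtype.val h)))
    (pd_le_spanFinrank _ (L ⧸ fib R L) rfl _) hp
  obtain ⟨G, hG⟩ := isPrincipal_of_stablyFreeFin Q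
    ⟨a, b, ⟨(LinearEquiv.prodCongr eQ.symm (LinearEquiv.refl _ _)).trans e⟩⟩
  -- a generator in `J'`
  have hGQ : G ∈ Q := hG ▸ Submodule.mem_span_singleton_self G
  obtain ⟨⟨⟨x, hx⟩, σ⟩, hGx⟩ := (IsLocalization.mem_map_algebraMap_iff S K).1 hGQ
  obtain ⟨g₀, hg₀, hg₀0, -, -, -⟩ := hloc ⊥ Ideal.isPrime_bot
    (eq_bot_iff.2 fun c hc => (Submodule.mem_bot R).2 (hRA ((Ideal.mem_bot.1 (Ideal.mem_comap.1 hc)).trans (map_zero _).symm)))
  have hdvd : ∀ y ∈ J', ∃ (z : L) (c : R), c ≠ 0 ∧ algebraMap R L c * y = z * x := by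
    intro y hy
    have hyQ : algebraMap L K y ∈ Q := Ideal.mem_map_of_mem _ hy
    rw [hG] at hyQ
    obtain ⟨r, hr⟩ := Submodule.mem_span_singleton.1 hyQ
    obtain ⟨r, τ, rfl⟩ := IsLocalization.exists_mk'_eq S r
    obtain ⟨cτ, hcτ, hcτ'⟩ := τ.2
    obtain ⟨cσ, hcσ, hcσ'⟩ := σ.2
    refine ⟨r, cτ * cσ, mul_ne_zero (nonZeroDivisors.ne_zero hcτ) (nonZeroDivisors.ne_zero hcσ), hLK ?_⟩
    rw [smul_eq_mul] at hr
    simp only [map_mul, hcτ', hcσ']
    rw [← hr, ← hGx, ← IsLocalization.mk'_spec K r τ]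
    ring
  have hx0 : x ≠ 0 := by
    intro h
    obtain ⟨z, c, hc, hz⟩ := hdvd _ (Ideal.mem_map_of_mem _ hg₀)
    rw [h, mul_zero] at hz
    exact hg₀0 (hinj ((hL c _ hc hz).trans (map_zero _).symm))
  obtain ⟨v, g, hv, hgm, rfl⟩ := exists_content q hq x hx0
  have hgJ : g ∈ J' := hJ' v g hv hx
  have hJg : ∀ y ∈ J', g ∣ y := by
    intro y hy
    obtain ⟨z, c, hc, hz⟩ := hdvd y hy
    obtain ⟨w, hw⟩ := Ideal.mem_span_singleton'.1 (mem_of_smul_mem_slice q hq (isPrime_fib q hq) g hgm hc
      (y := y) (Ideal.mem_span_singleton'.2 ⟨z * algebraMap R L v, by rw [hz]; ring⟩))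
    exact ⟨w, by rw [← hw, mul_comm]⟩
  obtain ⟨⟨⟨j, hj⟩, t⟩, hjt⟩ := (IsLocalization.mem_map_algebraMap_iff q.primeCompl L).1 hgJ
  have hj0 : j ≠ 0 := by
    intro h
    simp only [h, map_zero] at hjt
    exact hgm ((mul_eq_zero.1 hjt).resolve_right
      (IsLocalization.map_units L t).ne_zero ▸ zero_mem _)
  obtain ⟨T, hT⟩ := hJfg
  have hdiv : ∀ y : T, ∃ s ∉ q, j ∣ s * (y : A) := by
    intro y
    obtain ⟨w, hw⟩ := hJg _ (Ideal.mem_map_of_mem _ (hT ▸ Submodule.subset_span y.2 : (y : A) ∈ J))
    obtain ⟨w, u, rfl⟩ := IsLocalization.exists_mk'_eq q.primeCompl w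
    refine ⟨(u : A) * t, (u * t).2, w, hinj ?_⟩
    rw [map_mul, map_mul, map_mul, ← hjt, hw, ← IsLocalization.mk'_spec L w u]
    ring
  choose σ' hσ' hσdvd using hdiv
  refine ⟨j, hj, hj0, ∏ y, σ' y, fun h => ?_, fun y hy => ?_⟩
  · obtain ⟨y, -, hy⟩ := Ideal.IsPrime.prod_mem_iff.1 h
    exact hσ' y hy
  · rw [← hT] at hy
    induction hy using Submodule.span_induction with
    | mem z hz =>
      rw [← Finset.prod_erase_mul _ _ (Finset.mem_univ (⟨z, hz⟩ : T)), mul_assoc]
      exact Dvd.dvd.mul_left (hσdvd ⟨z, hz⟩) _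
    | zero => simp
    | add _ _ _ _ ha hb => rw [mul_add]; exact dvd_add ha hb
    | smul c _ _ ha => rw [smul_eq_mul, mul_left_comm]; exact ha.mul_left _

end Groth.Agent.ValDiv15
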