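import Groth.Agent.Lib.ValDiv15.Global
import Groth.Agent.Lib.EffCartier.Comap
import Groth.Agent.Lib.EffCartier.Basic
import Mathlib.AlgebraicGeometry.Morphisms.Smooth
import Mathlib.AlgebraicGeometry.Morphisms.Affine
import Mathlib.Algebra.Category.Ring.Constructions

/-!
# Closures of effective Cartier divisors of generic fibres
-/

universe u

open CategoryTheory CategoryTheory.Limits AlgebraicGeometry

namespace Groth.Agent.ValDiv15

open Groth.Agent.EffCartier Groth.Agent.ValCoh15

set_option backward.isDefEq.respectTransparency.types false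

/-- An effective Cartier ideal on an affine integral scheme gives local equations. -/
theorem exists_eqn_of_isEffCartierIdeal {B : Scheme.{u}} [IsAffine B] [IsDomain Γ(B, ⊤)]
    [IsNoetherianRing Γ(B, ⊤)] {I : B.IdealSheafData}
    (hI : BlowUp.IsEffCartierIdeal I) (P : Ideal Γ(B, ⊤)) [P.IsPrime] :
    ∃ f ∈ I.ideal ⟨⊤, isAffineOpen_top B⟩, f ≠ 0 ∧ ∃ s ∉ P, ∀ y ∈ I.ideal ⟨⊤, isAffineOpen_top B⟩, f ∣ s * y := by
  classical
  let T : B.affineOpens := ⟨⊤, isAffineOpen_top B⟩
  let x : B := T.2.fromSpec ⟨P, ‹_›⟩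
  obtain ⟨W, hxW, f₀, hf₀⟩ := isEffCartierIdeal_iff.mp hI x
  obtain ⟨r', s', hrs, hxr'⟩ := exists_basicOpen_le_affine_inter T.2 W.2 x ⟨trivial, hxW⟩
  obtain ⟨f, hf⟩ := (hf₀.basicOpen s').congr (V := B.affineBasicOpen r') (Subtype.ext hrs.symm)
  have hr'P : r' ∉ P :=
    (T.2.fromSpec_preimage_basicOpen r').le (show (⟨P, ‹_›⟩ : PrimeSpectrum Γ(B, T.1)) ∈
      T.2.fromSpec ⁻¹ᵁ B.basicOpen r' from hxr')
  let L := Γ(B, (B.affineBasicOpen r').1)
  letI : Algebra Γ(B, T.1) L := (B.presheaf.map (homOfLE (B.basicOpen_le r')).op).hom.toAlgebra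
  haveI : IsLocalization.Away r' L := T.2.isLocalization_basicOpen r'
  have hideal : (I.ideal T).map (algebraMap Γ(B, T.1) L) = Ideal.span {f} := by
    rw [← hf.ideal_eq]
    exact I.map_ideal (B.affineBasicOpen_le r')
  have hfm : f ∈ (I.ideal T).map (algebraMap Γ(B, T.1) L) := hideal ▸ Ideal.mem_span_singleton_self f
  obtain ⟨⟨⟨f₁, hf₁⟩, u⟩, hfu⟩ := (IsLocalization.mem_map_algebraMap_iff (Submonoid.powers r') L).1 hfm
  have hr0 : r' ≠ 0 := fun h => hr'P (h ▸ zero_mem P)
  have hinj : Function.Injective (algebraMap Γ(B, T.1) L) :=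
    IsLocalization.injective L (powers_le_nonZeroDivisors_of_noZeroDivisors hr0)
  haveI : Nontrivial L := hinj.nontrivial
  refine ⟨f₁, hf₁, fun h => ?_, ?_⟩
  · simp only [h, map_zero] at hfu
    exact nonZeroDivisors.ne_zero hf.mem ((IsLocalization.map_units L u).mul_left_eq_zero.1 hfu)
  have hdiv : ∀ y ∈ I.ideal T, ∃ k : ℕ, f₁ ∣ r' ^ k * y := by
    intro y hy
    have hy' : algebraMap _ L y ∈ Ideal.span {f} := hideal ▸ Ideal.mem_map_of_mem _ hy
    obtain ⟨z, hz⟩ := Ideal.mem_span_singleton'.1 hy'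
    obtain ⟨z, ⟨_, k, rfl⟩, rfl⟩ := IsLocalization.exists_mk'_eq (Submonoid.powers r') z
    obtain ⟨_, l, hl⟩ := u
    refine ⟨k + l, z, hinj ?_⟩
    have hzs := IsLocalization.mk'_spec L z (⟨r' ^ k, k, rfl⟩ : Submonoid.powers r')
    simp only [← hl, map_pow] at hfu
    simp only [map_mul, map_pow, pow_add] at hzs ⊢
    rw [← hz, ← hzs, ← hfu]
    ring
  obtain ⟨G, hG⟩ := IsNoetherian.noetherian (I.ideal T)
  choose k hk using fun y : G => hdiv _ (hG ▸ Submodule.subset_span y.2 : (y : Γ(B, T.1)) ∈ I.ideal T)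
  refine ⟨∏ y, r' ^ k y, fun h => ?_, fun y hy => ?_⟩
  · obtain ⟨y, -, hy⟩ := Ideal.IsPrime.prod_mem_iff.1 h
    exact hr'P (Ideal.IsPrime.mem_of_pow_mem ‹_› _ hy)
  · rw [← hG] at hy
    induction hy using Submodule.span_induction with
    | mem z hz =>
      rw [← Finset.prod_erase_mul _ _ (Finset.mem_univ (⟨z, hz⟩ : G)), mul_assoc]
      exact Dvd.dvd.mul_left (hk ⟨z, hz⟩) _
    | zero => simp
    | add _ _ _ _ ha hb => rw [mul_add]; exact dvd_add ha hb
    | smul c _ _ ha => rw [smul_eq_mul, mul_left_comm]; exact ha.mul_left _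

/-- The ideal of the closure of an effective Cartier divisor of the generic fibre. -/
theorem isEffCartierIdeal_closure {R K : Type u} [CommRing R] [IsDomain R] [ValuationRing R] [Field K]
    [Algebra R K] [IsFractionRing R K] {U UK : Scheme.{u}} [IsAffine U] [IsDomain Γ(U, ⊤)]
    (g : U ⟶ Spec (CommRingCat.of R)) [Smooth g] {pr : UK ⟶ U} {fK : UK ⟶ Spec (CommRingCat.of K)}
    (sq : IsPullback pr fK g (Spec.map (CommRingCat.ofHom (algebraMap R K))))
    {I : UK.IdealSheafData} (hI : BlowUp.IsEffCartierIdeal I) :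
    BlowUp.IsEffCartierIdeal (I.subschemeι ≫ pr).ker ∧ (I.subschemeι ≫ pr).ker.comap pr = I := by
  classical
  haveI : IsAffineHom (Spec.map (CommRingCat.ofHom (algebraMap R K))) := inferInstance
  haveI : IsAffineHom pr := MorphismProperty.of_isPullback (P := @IsAffineHom) sq.flip inferInstance
  haveI : IsAffine UK := isAffine_of_isAffineHom pr
  let T : U.affineOpens := ⟨⊤, isAffineOpen_top U⟩
  let TK : UK.affineOpens := ⟨⊤, isAffineOpen_top UK⟩
  -- the rings
  let σR := (Scheme.ΓSpecIso (CommRingCat.of R)).inv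
  let σK := (Scheme.ΓSpecIso (CommRingCat.of K)).inv
  let A := Γ(U, ⊤)
  let B := Γ(UK, ⊤)
  letI : Algebra R A := (σR ≫ g.appTop).hom.toAlgebra
  letI : Algebra A B := pr.appTop.hom.toAlgebra
  letI : Algebra R B := ((algebraMap A B).comp (algebraMap R A)).toAlgebra
  haveI : IsScalarTower R A B := IsScalarTower.of_algebraMap_eq' rfl
  letI : Algebra K B := (σK ≫ fK.appTop).hom.toAlgebra
  have hσ : CommRingCat.ofHom (algebraMap R K) ≫ σK =
      σR ≫ (Spec.map (CommRingCat.ofHom (algebraMap R K))).appTop :=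
    Scheme.ΓSpecIso_inv_naturality (CommRingCat.ofHom (algebraMap R K))
  have hw : g.appTop ≫ pr.appTop =
      (Spec.map (CommRingCat.ofHom (algebraMap R K))).appTop ≫ fK.appTop := by
    rw [← Scheme.Hom.comp_appTop, ← Scheme.Hom.comp_appTop, sq.w]
  haveI : IsScalarTower R K B := IsScalarTower.of_algebraMap_eq fun r => by
    have h : CommRingCat.ofHom (algebraMap R K) ≫ σK ≫ fK.appTop = σR ≫ g.appTop ≫ pr.appTop := by
      rw [reassoc_of% hσ, hw]
    exact (congr($h r)).symm
  have hpo := (isPushout_appTop_of_isPullback sq).flip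
  have hpo' : IsPushout (CommRingCat.ofHom (algebraMap R K)) (CommRingCat.ofHom (algebraMap R A))
      (CommRingCat.ofHom (algebraMap K B)) (CommRingCat.ofHom (algebraMap A B)) :=
    hpo.of_iso (Scheme.ΓSpecIso (CommRingCat.of R)) (Scheme.ΓSpecIso (CommRingCat.of K)) (Iso.refl _) (Iso.refl _)
      (by exact Scheme.ΓSpecIso_naturality (CommRingCat.ofHom (algebraMap R K)))
      (by simp [σR, RingHom.algebraMap_toAlgebra, A])
      (by simp [σK, RingHom.algebraMap_toAlgebra, B])
      (by simp [RingHom.algebraMap_toAlgebra, A, B])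
  haveI : Algebra.IsPushout R K A B := CommRingCat.isPushout_iff_isPushout.mp hpo'
  let M : Submonoid A := Algebra.algebraMapSubmonoid A (nonZeroDivisors R)
  haveI hloc : IsLocalization M B := (Algebra.isLocalization_iff_isPushout (nonZeroDivisors R) K).mpr (Algebra.IsPushout.symm inferInstance)
  haveI : Algebra.Smooth R A := by
    have h1 := g.smooth_appLE (isAffineOpen_top (Spec (CommRingCat.of R))) (isAffineOpen_top U)
      (le_top : (⊤ : U.Opens) ≤ g ⁻¹ᵁ ⊤)
    have h2 : ((g.appLE ⊤ ⊤ le_top).hom.comp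
        (Scheme.ΓSpecIso (CommRingCat.of R)).symm.commRingCatIsoToRingEquiv.toRingHom).Smooth :=
      RingHom.Smooth.respectsIso.2 _ _ h1
    refine RingHom.smooth_algebraMap.1 ?_
    convert h2 using 1
    rw [RingHom.algebraMap_toAlgebra]
    simp [Scheme.Hom.appLE, σR]
    rfl
  have hRA : Function.Injective (algebraMap R A) := injective_of_fib_le (⊥ : Ideal A)
  have hM : M ≤ nonZeroDivisors A := by
    rintro _ ⟨c, hc, rfl⟩
    exact mem_nonZeroDivisors_of_ne_zero fun h => nonZeroDivisors.ne_zero hc (hRA (h.trans (map_zero _).symm))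
  haveI : IsDomain B := IsLocalization.isDomain_of_le_nonZeroDivisors B hM
  haveI : IsNoetherianRing B := by
    haveI : Algebra.FiniteType K B := Algebra.FiniteType.equiv inferInstance (Algebra.IsPushout.equiv R K A B)
    exact Algebra.FiniteType.isNoetherianRing K B
  -- the ideals
  let IB : Ideal B := I.ideal TK
  have hJ : ∀ x : A, x ∈ (I.subschemeι ≫ pr).ker.ideal T ↔ algebraMap A B x ∈ IB := by
    intro x
    rw [Scheme.Hom.ker_apply, RingHom.mem_ker]
    show I.subschemeι.app ⊤ (algebraMap A B x) = 0 ↔ _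
    rw [← RingHom.mem_ker]
    show algebraMap A B x ∈ RingHom.ker (I.subschemeι.app TK.1).hom ↔ _
    rw [Scheme.IdealSheafData.ker_subschemeι_app]
  let J : Ideal A := (I.subschemeι ≫ pr).ker.ideal T
  have hsat : IsSat R J := by
    intro c x hc hx
    rw [hJ] at hx ⊢
    rw [smul_eq_mul, map_mul] at hx
    exact (Ideal.unit_mul_mem_iff_mem _
      (IsLocalization.map_units B (⟨_, c, mem_nonZeroDivisors_of_ne_zero hc, rfl⟩ : M))).1 hx
  have hJB : J.map (algebraMap A B) = IB := by
    have h : J = IB.comap (algebraMap A B) := Ideal.ext hJ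
    rw [h]; exact IsLocalization.map_comap M B IB
  have hloc' : ∀ P : Ideal A, P.IsPrime → P.comap (algebraMap R A) = ⊥ →
      ∃ f ∈ J, f ≠ 0 ∧ ∃ s ∉ P, ∀ y ∈ J, f ∣ s * y := by
    intro P hP hP0
    have hdis : Disjoint (M : Set A) (P : Set A) := Set.disjoint_left.2 fun x ⟨c, hc, hcx⟩ hx =>
      nonZeroDivisors.ne_zero hc ((Submodule.mem_bot R).1 (hP0 ▸ Ideal.mem_comap.2 (hcx ▸ hx)))
    haveI := IsLocalization.isPrime_of_isPrime_disjoint M B P hP hdis
    obtain ⟨f, hf, hf0, s, hs, hdvd⟩ := exists_eqn_of_isEffCartierIdeal hI (P.map (algebraMap A B))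
    obtain ⟨⟨⟨f₁, hf₁⟩, u⟩, hfu⟩ := (IsLocalization.mem_map_algebraMap_iff M B).1 (hJB ▸ hf : f ∈ J.map (algebraMap A B))
    obtain ⟨s, v, rfl⟩ := IsLocalization.exists_mk'_eq M s
    have hsP : s ∉ P := fun h => hs (by
      rw [IsLocalization.mk'_eq_mul_mk'_one s v]
      exact Ideal.mul_mem_right _ _ (Ideal.mem_map_of_mem _ h))
    have hinj : Function.Injective (algebraMap A B) := IsLocalization.injective B hM
    obtain ⟨G, hG⟩ := fg_of_saturated (R := R) J hsat
    have hdiv : ∀ y : G, ∃ w ∉ P, f₁ ∣ w * (y : A) := by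
      intro y
      obtain ⟨z, hz⟩ := hdvd _ ((hJ _).1 (hG ▸ Submodule.subset_span y.2 : (y : A) ∈ J))
      obtain ⟨z, t, rfl⟩ := IsLocalization.exists_mk'_eq M z
      refine ⟨(t : A) * u * s, fun h => ?_, z * v, hinj ?_⟩
      · rcases hP.mem_or_mem h with h | h
        · exact Set.disjoint_left.1 hdis (t * u).2 h
        · exact hsP h
      · simp only [map_mul]
        rw [← IsLocalization.mk'_spec B s v, ← IsLocalization.mk'_spec B z t, ← hfu]
        linear_combination (algebraMap A B (t : A) * algebraMap A B (u : A) * algebraMap A B (v : A)) * hz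
    choose w hw hwdvd using hdiv
    refine ⟨f₁, hf₁, fun h => hf0 ?_, ∏ y, w y, fun h => ?_, fun y hy => ?_⟩
    · simp only [h, map_zero] at hfu
      exact (IsLocalization.map_units B u).mul_left_eq_zero.1 hfu
    · obtain ⟨y, -, hy⟩ := Ideal.IsPrime.prod_mem_iff.1 h
      exact hw y hy
    · rw [← hG] at hy
      induction hy using Submodule.span_induction with
      | mem z hz =>
        rw [← Finset.prod_erase_mul _ _ (Finset.mem_univ (⟨z, hz⟩ : G)), mul_assoc]
        exact Dvd.dvd.mul_left (hwdvd ⟨z, hz⟩) _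
      | zero => simp
      | add _ _ _ _ ha hb => rw [mul_add]; exact dvd_add ha hb
      | smul c _ _ ha => rw [smul_eq_mul, mul_left_comm]; exact ha.mul_left _
  refine ⟨isEffCartierIdeal_iff.mpr fun x => ?_, ?_⟩
  · obtain ⟨f, hf, hf0, s, hs, hdvd⟩ := exists_eqn J hsat hloc' (T.2.primeIdealOf ⟨x, trivial⟩).asIdeal
    let L := Γ(U, (U.affineBasicOpen (U := T) s).1)
    letI : Algebra A L := (U.presheaf.map (homOfLE (U.basicOpen_le s)).op).hom.toAlgebra
    haveI : IsLocalization.Away s L := T.2.isLocalization_basicOpen s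
    have hs0 : s ≠ 0 := fun h => hs (h ▸ zero_mem _)
    refine ⟨U.affineBasicOpen (U := T) s, ?_, algebraMap A L f, ⟨?_, ?_⟩⟩
    · have h := T.2.fromSpec_primeIdealOf ⟨x, trivial⟩
      show x ∈ U.basicOpen s
      have h2 : T.2.fromSpec (T.2.primeIdealOf ⟨x, trivial⟩) ∈ U.basicOpen s :=
        (T.2.fromSpec_preimage_basicOpen s).ge hs
      rwa [h] at h2
    · exact IsLocalization.map_nonZeroDivisors_le (Submonoid.powers s) L
        ⟨f, mem_nonZeroDivisors_of_ne_zero hf0, rfl⟩
    · refine ((I.subschemeι ≫ pr).ker.map_ideal (U.affineBasicOpen_le (V := T) s)).symm.trans (le_antisymm ?_ ?_)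
      · refine Ideal.map_le_iff_le_comap.2 fun y hy => ?_
        obtain ⟨c, hc⟩ := hdvd y hy
        rw [Ideal.mem_comap]
        show algebraMap A L y ∈ _
        refine (Ideal.unit_mul_mem_iff_mem _
          (IsLocalization.map_units L (⟨s, 1, pow_one s⟩ : Submonoid.powers s))).1 ?_
        show algebraMap A L s * algebraMap A L y ∈ _
        rw [← map_mul, hc, map_mul]
        exact Ideal.mul_mem_right _ _ (Ideal.mem_span_singleton_self _)
      · rw [Ideal.span_singleton_le_iff_mem]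
        exact Ideal.mem_map_of_mem _ hf
  · refine Scheme.IdealSheafData.ext_of_isAffine ?_
    rw [comap_ideal_top]
    exact hJB

end Groth.Agent.ValDiv15
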