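import Groth.Agent.Lib.ValCoh15.Coherent
import Groth.Agent.Lib.RegLoc.UFD

/-!
# Stable freeness over local algebras over valuation rings

A finite torsion-free module over a local algebra over a valuation ring whose reduction has finite
projective dimension becomes stably free after a localisation making it projective.
-/

open IsLocalRing

namespace Groth.Agent.ValDiv15

universe u

open Groth.Agent.ValCoh15 Groth.Agent.RegLoc

variable {R A : Type u} [CommRing R] [IsDomain R] [ValuationRing R] [CommRing A] [Algebra R A]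

variable (R A) in
/-- The ideal of the special fibre. -/
abbrev fib : Ideal A := (maximalIdeal R).map (algebraMap R A)

/-- An element of `mM` is a single multiple by an element of `m`. -/
theorem exists_eq_smul_of_mem {M : Type u} [AddCommGroup M] [Module A M] {x : M}
    (hx : x ∈ fib R A • (⊤ : Submodule A M)) :
    ∃ c ∈ maximalIdeal R, ∃ y : M, x = algebraMap R A c • y := by
  have hadd : ∀ {a b : M}, (∃ c ∈ maximalIdeal R, ∃ y : M, a = algebraMap R A c • y) →
      (∃ c ∈ maximalIdeal R, ∃ y : M, b = algebraMap R A c • y) →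
      ∃ c ∈ maximalIdeal R, ∃ y : M, a + b = algebraMap R A c • y := by
    rintro _ _ ⟨c, hc, y, rfl⟩ ⟨d, hd, z, rfl⟩
    rcases ValuationRing.dvd_total c d with ⟨e, rfl⟩ | ⟨e, rfl⟩
    · exact ⟨c, hc, y + algebraMap R A e • z, by rw [map_mul, mul_smul, smul_add]⟩
    · exact ⟨d, hd, algebraMap R A e • y + z, by rw [map_mul, mul_smul, smul_add]⟩
  refine Submodule.smul_induction_on hx ?_ fun a b => hadd
  intro a ha m hm
  clear hm
  revert m
  induction ha using Submodule.span_induction with
  | mem a ha =>
    obtain ⟨c, hc, rfl⟩ := ha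
    exact fun m => ⟨c, hc, m, rfl⟩
  | zero => exact fun m => ⟨0, zero_mem _, 0, by simp⟩
  | add a b _ _ ha hb => exact fun m => by rw [add_smul]; exact hadd (ha m) (hb m)
  | smul r a _ ha => exact fun m => by rw [smul_eq_mul, mul_comm, mul_smul]; exact ha _

theorem smul_mem_fib {M : Type u} [AddCommGroup M] [Module A M] {c : R} (hc : c ∈ maximalIdeal R) (y : M) :
    algebraMap R A c • y ∈ fib R A • (⊤ : Submodule A M) :=
  Submodule.smul_mem_smul (Ideal.mem_map_of_mem _ hc) trivial

/-- Saturated submodules meet `mM` in `mN`. -/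
theorem mem_smul_top_of_sat {M : Type u} [AddCommGroup M] [Module A M] {N : Submodule A M}
    (hN : IsSat R N) (x : N) (hx : (x : M) ∈ fib R A • (⊤ : Submodule A M)) :
    x ∈ fib R A • (⊤ : Submodule A N) := by
  obtain ⟨c, hc, y, hy⟩ := exists_eq_smul_of_mem hx
  by_cases hc0 : c = 0
  · have : x = 0 := Subtype.ext (by rw [hy, hc0, map_zero, zero_smul]; rfl)
    rw [this]; exact zero_mem _
  · have hyN : y ∈ N := hN c y hc0 (hy ▸ x.2)
    have : x = algebraMap R A c • (⟨y, hyN⟩ : N) := Subtype.ext hy
    rw [this]; exact smul_mem_fib hc _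

/-- The reduction of a linear map. -/
noncomputable def redMap (I : Ideal A) {M N : Type u} [AddCommGroup M] [Module A M] [AddCommGroup N] [Module A N]
    (f : M →ₗ[A] N) :
    (M ⧸ I • (⊤ : Submodule A M)) →ₗ[A ⧸ I] (N ⧸ I • (⊤ : Submodule A N)) where
  toFun := Submodule.mapQ _ _ f (Submodule.smul_top_le_comap_smul_top I f)
  map_add' := map_add _
  map_smul' r x := by
    obtain ⟨r, rfl⟩ := Ideal.Quotient.mk_surjective r
    exact map_smul (Submodule.mapQ _ _ f (Submodule.smul_top_le_comap_smul_top I f)) r x

@[simp] theorem redMap_mk (I : Ideal A) {M N : Type u} [AddCommGroup M] [Module A M] [AddCommGroup N] [Module A N]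
    (f : M →ₗ[A] N) (x : M) : redMap I f (Submodule.Quotient.mk x) = Submodule.Quotient.mk (f x) := rfl

theorem redMap_surjective (I : Ideal A) {M N : Type u} [AddCommGroup M] [Module A M] [AddCommGroup N] [Module A N]
    (f : M →ₗ[A] N) (hf : Function.Surjective f) : Function.Surjective (redMap I f) := fun y => by
  obtain ⟨y, rfl⟩ := Submodule.Quotient.mk_surjective _ y
  obtain ⟨x, rfl⟩ := hf y
  exact ⟨Submodule.Quotient.mk x, rfl⟩

theorem isSat_ker {M N : Type u} [AddCommGroup M] [Module A M] [AddCommGroup N] [Module A N] (f : M →ₗ[A] N)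
    (hN : ∀ (c : R) (x : N), c ≠ 0 → algebraMap R A c • x = 0 → x = 0) : IsSat R (LinearMap.ker f) :=
  fun c x hc hx => hN c _ hc (by rw [← map_smul]; exact hx)

theorem torsionFree_submodule {M : Type u} [AddCommGroup M] [Module A M] (N : Submodule A M)
    (hM : ∀ (c : R) (x : M), c ≠ 0 → algebraMap R A c • x = 0 → x = 0) :
    ∀ (c : R) (x : N), c ≠ 0 → algebraMap R A c • x = 0 → x = 0 :=
  fun c x hc hx => Subtype.ext (hM c _ hc (congrArg Subtype.val hx))

/-- The kernel of the reduction is the reduction of the kernel. -/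
noncomputable def kerRedEquiv {r : ℕ} {M : Type u} [AddCommGroup M] [Module A M] (f : (Fin r → A) →ₗ[A] M)
    (hf : Function.Surjective f) (hM : ∀ (c : R) (x : M), c ≠ 0 → algebraMap R A c • x = 0 → x = 0) :
    ((LinearMap.ker f) ⧸ fib R A • (⊤ : Submodule A (LinearMap.ker f))) ≃ₗ[A ⧸ fib R A]
      LinearMap.ker (redMap (fib R A) f) :=
  LinearEquiv.ofBijective
    ((redMap (fib R A) (LinearMap.ker f).subtype).codRestrict _ fun x => by
      obtain ⟨x, rfl⟩ := Submodule.Quotient.mk_surjective _ x
      rw [LinearMap.mem_ker, redMap_mk, redMap_mk, Submodule.subtype_apply, x.2]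
      rfl)
    ⟨fun a b h => by
      obtain ⟨a, rfl⟩ := Submodule.Quotient.mk_surjective _ a
      obtain ⟨b, rfl⟩ := Submodule.Quotient.mk_surjective _ b
      have h' := congrArg Subtype.val h
      rw [LinearMap.codRestrict_apply, LinearMap.codRestrict_apply, redMap_mk, redMap_mk,
        Submodule.Quotient.eq] at h'
      rw [Submodule.Quotient.eq]
      exact mem_smul_top_of_sat (isSat_ker f hM) _ h',
    fun ⟨y, hy⟩ => by
      obtain ⟨y, rfl⟩ := Submodule.Quotient.mk_surjective _ y
      rw [LinearMap.mem_ker, redMap_mk, Submodule.Quotient.mk_eq_zero] at hy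
      obtain ⟨c, hc, z, hz⟩ := exists_eq_smul_of_mem hy
      obtain ⟨z, rfl⟩ := hf z
      refine ⟨Submodule.Quotient.mk ⟨y - algebraMap R A c • z, by
        rw [LinearMap.mem_ker, map_sub, map_smul, hz, sub_self]⟩, Subtype.ext ?_⟩
      rw [LinearMap.codRestrict_apply, redMap_mk, Submodule.Quotient.eq, Submodule.subtype_apply]
      show y - algebraMap R A c • z - y ∈ _
      rw [sub_sub_cancel_left]
      exact Submodule.neg_mem _ (smul_mem_fib hc z)⟩

/-- A finite torsion-free module with projective reduction is free. -/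
theorem free_of_projective_red [IsLocalRing A] (hfib : fib R A ≤ maximalIdeal A)
    (hcoh : ∀ (r : ℕ) (N : Submodule A (Fin r → A)), IsSat R N → N.FG)
    (M : Type u) [AddCommGroup M] [Module A M] [Module.Finite A M]
    (hM : ∀ (c : R) (x : M), c ≠ 0 → algebraMap R A c • x = 0 → x = 0)
    (hproj : Module.Projective (A ⧸ fib R A) (M ⧸ fib R A • (⊤ : Submodule A M))) :
    Module.Free A M := by
  classical
  have hne : fib R A ≠ ⊤ := fun h => (maximalIdeal.isMaximal A).ne_top (top_le_iff.1 (h ▸ hfib))
  have : Nontrivial (A ⧸ fib R A) := Ideal.Quotient.nontrivial_iff.2 hne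
  have : IsLocalRing (A ⧸ fib R A) := IsLocalRing.of_surjective' _ Ideal.Quotient.mk_surjective
  have : Module.Finite (A ⧸ fib R A) (M ⧸ fib R A • (⊤ : Submodule A M)) :=
    Module.Finite.of_restrictScalars_finite A _ _
  have : Module.Flat (A ⧸ fib R A) (M ⧸ fib R A • (⊤ : Submodule A M)) := inferInstance
  have : Module.Free (A ⧸ fib R A) (M ⧸ fib R A • (⊤ : Submodule A M)) := Module.free_of_flat_of_isLocalRing
  let b := Module.finBasis (A ⧸ fib R A) (M ⧸ fib R A • (⊤ : Submodule A M))
  choose m hm using fun i => Submodule.Quotient.mk_surjective _ (b i)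
  let f : (Fin _ → A) →ₗ[A] M := Fintype.linearCombination A m
  have hrange : ⊤ ≤ LinearMap.range f := by
    refine Submodule.le_of_le_smul_of_le_jacobson_bot Module.Finite.fg_top
      (hfib.trans (jacobson_eq_maximalIdeal ⊥ bot_ne_top).ge) ?_
    intro x _
    choose c hc using fun i => Ideal.Quotient.mk_surjective (b.repr (Submodule.Quotient.mk x) i)
    refine Submodule.mem_sup.2 ⟨f c, LinearMap.mem_range_self f c, x - f c, ?_, add_sub_cancel _ _⟩
    rw [← Submodule.Quotient.mk_eq_zero, Submodule.Quotient.mk_sub, sub_eq_zero]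
    conv_lhs => rw [← b.sum_repr (Submodule.Quotient.mk x)]
    rw [Fintype.linearCombination_apply]
    show _ = Submodule.mkQ _ (∑ i, c i • m i)
    rw [map_sum]
    refine Finset.sum_congr rfl fun i _ => ?_
    rw [map_smul, Submodule.mkQ_apply, hm, ← hc]
    rfl
  have hf : Function.Surjective f := LinearMap.range_eq_top.1 (top_le_iff.1 hrange)
  have hker : LinearMap.ker f = ⊥ := by
    refine Submodule.eq_bot_of_le_smul_of_le_jacobson_bot (fib R A) _ (hcoh _ _ (isSat_ker f hM)) ?_
      (hfib.trans (jacobson_eq_maximalIdeal ⊥ bot_ne_top).ge)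
    intro x hx
    have h0 : Submodule.Quotient.mk (f x) = (0 : M ⧸ fib R A • (⊤ : Submodule A M)) := by
      rw [LinearMap.mem_ker.1 hx]; rfl
    rw [Fintype.linearCombination_apply, ← Submodule.mkQ_apply, map_sum] at h0
    simp only [map_smul, Submodule.mkQ_apply, hm] at h0
    have h1 := Fintype.linearIndependent_iff.1 b.linearIndependent (fun i => Ideal.Quotient.mk _ (x i))
      (by rw [← h0]; rfl)
    have hxF : x ∈ fib R A • (⊤ : Submodule A (Fin _ → A)) := by
      rw [pi_eq_sum_univ' x]
      exact Submodule.sum_mem _ fun i _ => Submodule.smul_mem_smul (Ideal.Quotient.eq_zero_iff_mem.1 (h1 i)) trivial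
    have := Submodule.mem_map_of_mem (f := (LinearMap.ker f).subtype)
      (mem_smul_top_of_sat (isSat_ker f hM) ⟨x, hx⟩ hxF)
    rw [Submodule.map_smul'', Submodule.map_top, Submodule.range_subtype] at this
    exact this
  exact Module.Free.of_equiv (LinearEquiv.ofBijective f ⟨LinearMap.ker_eq_bot.1 hker, hf⟩)

/-- Finite projective dimension of the reduction gives stable freeness after localisation. -/
theorem stablyFreeFin_of_pd_red [IsLocalRing A] (hfib : fib R A ≤ maximalIdeal A)
    (hA : ∀ (c : R) (x : A), c ≠ 0 → algebraMap R A c * x = 0 → x = 0)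
    (hcoh : ∀ (r : ℕ) (N : Submodule A (Fin r → A)), IsSat R N → N.FG) (S : Submonoid A) :
    ∀ (n : ℕ) (M : Type u) [AddCommGroup M] [Module A M] [Module.Finite A M],
      (∀ (c : R) (x : M), c ≠ 0 → algebraMap R A c • x = 0 → x = 0) →
      PD (A ⧸ fib R A) (M ⧸ fib R A • (⊤ : Submodule A M)) n →
      Module.Projective (Localization S) (LocalizedModule S M) →
        StablyFreeFin (Localization S) (LocalizedModule S M) := by
  intro n
  induction n with
  | zero =>
    intro M _ _ _ hM h _
    have := free_of_projective_red hfib hcoh M hM (pd_zero_iff.1 h)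
    let b := Module.finBasis A M
    let bS : Module.Basis _ (Localization S) (LocalizedModule S M) :=
      b.ofIsLocalizedModule (Localization S) S (LocalizedModule.mkLinearMap S M)
    exact ⟨0, _, ⟨LinearEquiv.prodUnique.trans bS.equivFun⟩⟩
  | succ n ih =>
    intro M _ _ _ hM h hproj
    obtain ⟨r, f, hf⟩ := Module.Finite.exists_fin' A M
    have hF : ∀ (c : R) (x : Fin r → A), c ≠ 0 → algebraMap R A c • x = 0 → x = 0 :=
      fun c x hc hx => funext fun i => hA c _ hc (congrFun hx i)
    have : Module.Finite A (LinearMap.ker f) := Module.Finite.iff_fg.2 (hcoh r _ (isSat_ker f hM))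
    have : Module.Projective (A ⧸ fib R A) ((Fin r → A) ⧸ fib R A • (⊤ : Submodule A (Fin r → A))) :=
      Module.Projective.of_equiv (LinearEquiv.extendScalarsOfSurjective Ideal.Quotient.mk_surjective
        ((TensorProduct.quotTensorEquivQuotSMul (Fin r → A) (fib R A))))
    rw [pd_succ_iff (redMap (fib R A) f) (redMap_surjective _ f hf)] at h
    have h' := h.congr (kerRedEquiv f hf hM).symm
    set fS := LocalizedModule.map S f
    set iS := LocalizedModule.map S (LinearMap.ker f).subtype
    have hi : Function.Injective iS := LocalizedModule.map_injective S _ f.ker.injective_subtype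
    have hsurj : Function.Surjective fS := LocalizedModule.map_surjective S f hf
    have hex : Function.Exact iS fS := LocalizedModule.map_exact S _ f (LinearMap.exact_subtype_ker_map f)
    obtain ⟨l, hl⟩ := Module.projective_lifting_property fS LinearMap.id hsurj
    obtain ⟨e, he⟩ := Function.Exact.splitSurjectiveEquiv (R := Localization S) (M := LocalizedModule S f.ker) (N := LocalizedModule S (Fin r → A)) (P := LocalizedModule S M) (f := iS) (g := fS) hex hi ⟨l, hl⟩
    have : Module.Projective (Localization S) (LocalizedModule S (Fin r → A)) :=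
      Module.projective_of_isLocalizedModule S (LocalizedModule.mkLinearMap S (Fin r → A))
    have hK : Module.Projective (Localization S) (LocalizedModule S (LinearMap.ker f)) :=
      Module.Projective.of_split (iS) (LinearMap.fst _ _ _ ∘ₗ e.toLinearMap) (by
        ext x
        have := LinearMap.congr_fun he.1 x
        simp only [LinearMap.comp_apply, LinearEquiv.coe_coe, LinearMap.inl_apply] at this ⊢
        rw [this]; simp)
    obtain ⟨a, b, ⟨g⟩⟩ := ih _ (torsionFree_submodule _ hF) h' hK
    let bL : Module.Basis (Fin r) (Localization S) (LocalizedModule S (Fin r → A)) :=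
      (Pi.basisFun A (Fin r)).ofIsLocalizedModule (Localization S) S (LocalizedModule.mkLinearMap S (Fin r → A))
    refine ⟨b, r + a, ⟨?_⟩⟩
    exact (LinearEquiv.prodCongr (LinearEquiv.refl _ _) g.symm).trans
      ((LinearEquiv.prodAssoc _ _ _ _).symm.trans
        ((LinearEquiv.prodCongr ((LinearEquiv.prodComm _ _ _).trans (e.symm.trans bL.equivFun))
          (LinearEquiv.refl _ _)).trans (finProdEquiv _ r a)))

end Groth.Agent.ValDiv15
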